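import Cfsg.Agent.Spor.DE0

set_option autoImplicit false
set_option maxRecDepth 100000000
set_option Elab.async false
noncomputable section

namespace Cfsg.Agent.Spor.J4G

def A_cm : Nat := nat_lit 0x1001001001001001001001001001001001
def A_rm : Nat := nat_lit 0xfff
def A_em : Nat := nat_lit 0x0
def A_qm : Nat := nat_lit 0x0
def A_one : Nat := nat_lit 0x800400200100080040020010008004002001
def A : PA := ⟨nat_lit 2, nat_lit 1, nat_lit 12, nat_lit 12, nat_lit 12, nat_lit 0, nat_lit 0, A_cm, A_rm, A_em, A_qm, A_one⟩

def e413 : Nat := nat_lit 0x8006e263b02100937024e526005011001003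

def e620 : Nat := nat_lit 0x8014007b452724f00404000210000120055c

def TT : List Nat := [nat_lit 0x8000f40b67426cc2f632c46938777f4f62b9, nat_lit 0x8000f40b67426cc2f632c46938777f4f62b9, nat_lit 0x80040802800a0090483790fe2470183d21e5, nat_lit 0x80064f13e1953a220f04f24b24f2b934f2cf, nat_lit 0x911400200100080040020010008004002001, nat_lit 0x911400200100080040020010008004002001]

end Cfsg.Agent.Spor.J4G
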